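import Cfsg.Agent.S0245

/-!
# The Sylow subgroup of `Sp(4,p)` as a split extension with one Jordan block (S5181)
-/

set_option autoImplicit false

open Matrix
open scoped commutatorElement

namespace Cfsg.Agent.H59.SpSylow

universe u

variable {p : ℕ} [Fact p.Prime] {G : Type u} [Group G]

/-- Generators of a group `p ^ 3 : p` with a single Jordan block. -/
structure Frame (p : ℕ) (a b c x : G) : Prop where
  ap : a ^ p = 1
  bp : b ^ p = 1
  cp : c ^ p = 1
  xp : x ^ p = 1
  ab : Commute a b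
  ac : Commute a c
  bc : Commute b c
  xa : x * a = a * b * x
  xb : x * b = b * c * x
  xc : x * c = c * x
  cne : c ≠ 1

/-- The normal form. -/
def wd (a b c x : G) (i j k l : ℕ) : G := a ^ i * b ^ j * c ^ k * x ^ l

theorem pow_congr {g : G} (hg : g ^ p = 1) {m n : ℕ} (h : (m : ZMod p) = n) : g ^ m = g ^ n :=
  pow_eq_pow_of_modEq ((ZMod.natCast_eq_natCast_iff m n p).1 h) hg

theorem dvd_of_pow {g : G} (hg : g ^ p = 1) (h1 : g ≠ 1) {n : ℕ} (hn : g ^ n = 1) : p ∣ n :=
  orderOf_eq_prime hg h1 ▸ orderOf_dvd_of_pow_eq_one hn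

variable {a b c x : G}

theorem Frame.conj_pows (F : Frame p a b c x) (l : ℕ) :
    x ^ l * a = a * b ^ l * c ^ l.choose 2 * x ^ l ∧ x ^ l * b = b * c ^ l * x ^ l ∧
      x ^ l * c = c * x ^ l := by
  induction l with
  | zero => simp
  | succ l ih =>
    obtain ⟨ia, ib, ic⟩ := ih
    refine ⟨?_, ?_, ?_⟩
    · have hc : (l + 1).choose 2 = l + l.choose 2 := by
        rw [Nat.choose_succ_succ', Nat.choose_one_right]
      calc x ^ (l + 1) * a = x ^ l * a * b * x := by rw [pow_succ, mul_assoc, F.xa]; group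
        _ = a * b ^ l * c ^ l.choose 2 * (x ^ l * b) * x := by rw [ia]; group
        _ = a * b ^ l * c ^ l.choose 2 * (b * c ^ l * x ^ l) * x := by rw [ib]
        _ = a * b ^ l * (c ^ l.choose 2 * b) * c ^ l * (x ^ l * x) := by group
        _ = a * b ^ l * (b * c ^ l.choose 2) * c ^ l * x ^ (l + 1) := by
          rw [(F.bc.symm.pow_left _).eq, ← pow_succ]
        _ = a * b ^ (l + 1) * (c ^ l.choose 2 * c ^ l) * x ^ (l + 1) := by
          rw [pow_succ b]; group
        _ = a * b ^ (l + 1) * c ^ (l + 1).choose 2 * x ^ (l + 1) := by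
          rw [← pow_add, hc, add_comm (l.choose 2) l]
    · calc x ^ (l + 1) * b = x ^ l * b * c * x := by rw [pow_succ, mul_assoc, F.xb]; group
        _ = b * c ^ l * (x ^ l * c) * x := by rw [ib]; group
        _ = b * c ^ (l + 1) * x ^ (l + 1) := by rw [ic, pow_succ c, pow_succ x]; group
    · exact ((show Commute x c from F.xc).pow_left _).eq

theorem Frame.push (F : Frame p a b c x) (l i j k : ℕ) :
    x ^ l * (a ^ i * b ^ j * c ^ k) =
      a ^ i * b ^ (j + l * i) * c ^ (k + l * j + l.choose 2 * i) * x ^ l := by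
  obtain ⟨ha, hb, hc⟩ := F.conj_pows l
  set φ := MulAut.conj (x ^ l)
  have ea : φ a = a * b ^ l * c ^ l.choose 2 := by
    rw [MulAut.conj_apply, ha, mul_inv_cancel_right]
  have eb : φ b = b * c ^ l := by rw [MulAut.conj_apply, hb, mul_inv_cancel_right]
  have ec : φ c = c := by rw [MulAut.conj_apply, hc, mul_inv_cancel_right]
  have key : φ (a ^ i * b ^ j * c ^ k) =
      a ^ i * b ^ (j + l * i) * c ^ (k + l * j + l.choose 2 * i) := by
    rw [map_mul, map_mul, map_pow, map_pow, map_pow, ea, eb, ec]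
    rw [((F.ac.pow_right _).mul_left (F.bc.pow_pow l _)).mul_pow, (F.ab.pow_right l).mul_pow,
      (F.bc.pow_right l).mul_pow, ← pow_mul, ← pow_mul, ← pow_mul]
    have h1 : ∀ m n, Commute (c ^ m) (b ^ n) := fun m n => F.bc.symm.pow_pow m n
    rw [mul_assoc (a ^ i * b ^ (l * i)), ← mul_assoc (c ^ _) (b ^ j), (h1 _ _).eq]
    simp only [pow_add]
    group
  rw [← key, MulAut.conj_apply, inv_mul_cancel_right]

theorem Frame.wd_mul (F : Frame p a b c x) (i j k l i' j' k' l' : ℕ) :
    wd a b c x i j k l * wd a b c x i' j' k' l' =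
      wd a b c x (i + i') (j + (j' + l * i')) (k + (k' + l * j' + l.choose 2 * i')) (l + l') := by
  unfold wd
  calc a ^ i * b ^ j * c ^ k * x ^ l * (a ^ i' * b ^ j' * c ^ k' * x ^ l')
      = a ^ i * b ^ j * c ^ k * (x ^ l * (a ^ i' * b ^ j' * c ^ k')) * x ^ l' := by group
    _ = a ^ i * b ^ j * c ^ k * (a ^ i' * b ^ (j' + l * i') *
          c ^ (k' + l * j' + l.choose 2 * i') * x ^ l) * x ^ l' := by rw [F.push]
    _ = a ^ i * (b ^ j * c ^ k * a ^ i') * b ^ (j' + l * i') *
          c ^ (k' + l * j' + l.choose 2 * i') * (x ^ l * x ^ l') := by group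
    _ = a ^ i * (a ^ i' * (b ^ j * c ^ k)) * b ^ (j' + l * i') *
          c ^ (k' + l * j' + l.choose 2 * i') * (x ^ l * x ^ l') := by
      rw [((F.ab.symm.pow_pow j i').mul_left (F.ac.symm.pow_pow k i')).eq]
    _ = (a ^ i * a ^ i') * b ^ j * (c ^ k * b ^ (j' + l * i')) *
          c ^ (k' + l * j' + l.choose 2 * i') * (x ^ l * x ^ l') := by group
    _ = (a ^ i * a ^ i') * b ^ j * (b ^ (j' + l * i') * c ^ k) *
          c ^ (k' + l * j' + l.choose 2 * i') * (x ^ l * x ^ l') := by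
      rw [(F.bc.symm.pow_pow k _).eq]
    _ = a ^ (i + i') * b ^ (j + (j' + l * i')) *
          c ^ (k + (k' + l * j' + l.choose 2 * i')) * x ^ (l + l') := by
      simp only [pow_add]; group

/-- The normal form on `(ZMod p) ^ 4`. -/
def word (a b c x : G) (v : ZMod p × ZMod p × ZMod p × ZMod p) : G :=
  wd a b c x v.1.val v.2.1.val v.2.2.1.val v.2.2.2.val

theorem Frame.word_cast (F : Frame p a b c x) (i j k l : ℕ) :
    word a b c x ((i : ZMod p), (j : ZMod p), (k : ZMod p), (l : ZMod p)) = wd a b c x i j k l := by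
  simp only [word, wd]
  rw [pow_congr F.ap (show (((i : ZMod p).val : ℕ) : ZMod p) = i by simp),
    pow_congr F.bp (show (((j : ZMod p).val : ℕ) : ZMod p) = j by simp),
    pow_congr F.cp (show (((k : ZMod p).val : ℕ) : ZMod p) = k by simp),
    pow_congr F.xp (show (((l : ZMod p).val : ℕ) : ZMod p) = l by simp)]

/-- The multiplication of normal forms. -/
def prodW (v w : ZMod p × ZMod p × ZMod p × ZMod p) : ZMod p × ZMod p × ZMod p × ZMod p :=
  (v.1 + w.1, v.2.1 + (w.2.1 + v.2.2.2 * w.1),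
    v.2.2.1 + (w.2.2.1 + v.2.2.2 * w.2.1 + (v.2.2.2.val.choose 2 : ℕ) * w.1),
    v.2.2.2 + w.2.2.2)

theorem Frame.word_mul (F : Frame p a b c x) (v w : ZMod p × ZMod p × ZMod p × ZMod p) :
    word a b c x v * word a b c x w = word a b c x (prodW v w) := by
  refine (F.wd_mul _ _ _ _ _ _ _ _).trans ?_
  rw [← F.word_cast]
  congr 1
  simp [prodW]

theorem Frame.wd_eq_one (F : Frame p a b c x) {i j k l : ℕ} (h : wd a b c x i j k l = 1) :
    p ∣ i ∧ p ∣ j ∧ p ∣ k ∧ p ∣ l := by
  set w := a ^ i * b ^ j * c ^ k with hw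
  have hxl : x ^ l = w⁻¹ := eq_inv_of_mul_eq_one_right h
  have hwa : ∀ g, Commute a g → Commute b g → Commute c g → Commute (x ^ l) g :=
    fun g h1 h2 h3 => hxl ▸ (((h1.pow_left i).mul_left (h2.pow_left j)).mul_left
      (h3.pow_left k)).inv_left
  have hb := (F.conj_pows l).2.1
  rw [(hwa b F.ab (Commute.refl b) F.bc.symm).eq] at hb
  have hcl : c ^ l = 1 := by
    have := mul_right_cancel hb
    exact mul_left_cancel (a := b) (by rw [mul_one]; exact this.symm)
  have hl : p ∣ l := dvd_of_pow F.cp F.cne hcl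
  have hw1 : w = 1 := by
    obtain ⟨t, rfl⟩ := hl
    rw [pow_mul, F.xp, one_pow] at hxl
    exact inv_eq_one.1 hxl.symm
  -- apply conjugation by `x`
  have h1 := F.push 1 i j k
  rw [← hw, hw1, mul_one, pow_one] at h1
  have h1' : a ^ i * b ^ (j + i) * c ^ (k + j) = 1 := by
    refine mul_right_cancel (b := x) ?_
    rw [one_mul]
    simpa using h1.symm
  have h2 : b ^ i * c ^ j = 1 := by
    have e : a ^ i * b ^ (j + i) * c ^ (k + j) = w * (b ^ i * c ^ j) := by
      rw [hw, pow_add b j i, pow_add c k j]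
      calc a ^ i * (b ^ j * b ^ i) * (c ^ k * c ^ j)
          = a ^ i * b ^ j * (b ^ i * c ^ k) * c ^ j := by group
        _ = a ^ i * b ^ j * (c ^ k * b ^ i) * c ^ j := by rw [(F.bc.pow_pow i k).eq]
        _ = a ^ i * b ^ j * c ^ k * (b ^ i * c ^ j) := by group
    rw [e, hw1, one_mul] at h1'
    exact h1'
  have h3 : c ^ i = 1 := by
    have e := congrArg (MulAut.conj x) h2
    have eb : MulAut.conj x b = b * c := by rw [MulAut.conj_apply, F.xb, mul_inv_cancel_right]
    have ec : MulAut.conj x c = c := by rw [MulAut.conj_apply, F.xc, mul_inv_cancel_right]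
    rw [map_one, map_mul, map_pow, map_pow, eb, ec, F.bc.mul_pow, mul_assoc,
      ← pow_add, add_comm, pow_add, ← mul_assoc, h2, one_mul] at e
    exact e
  have hi := dvd_of_pow F.cp F.cne h3
  have hci : b ^ i = 1 := by
    obtain ⟨t, rfl⟩ := hi
    rw [pow_mul, F.bp, one_pow]
  rw [hci, one_mul] at h2
  have hj := dvd_of_pow F.cp F.cne h2
  refine ⟨hi, hj, dvd_of_pow F.cp F.cne ?_, hl⟩
  obtain ⟨t, rfl⟩ := hi
  obtain ⟨s, rfl⟩ := hj
  rw [hw, pow_mul, F.ap, one_pow, pow_mul, F.bp, one_pow, one_mul, one_mul] at hw1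
  exact hw1

theorem Frame.word_injective (F : Frame p a b c x) : Function.Injective (word (p := p) a b c x) := by
  intro v w h
  obtain ⟨u, hu⟩ : ∃ u : ZMod p × ZMod p × ZMod p × ZMod p,
      u = (-v.1, -v.2.1 + v.2.2.2 * v.1,
        -v.2.2.1 - (((-v.2.2.2).val.choose 2 : ℕ) * v.1) + v.2.2.2 * v.2.1, -v.2.2.2) := ⟨_, rfl⟩
  have hv : prodW u v = (0, 0, 0, 0) := by
    rw [hu, prodW]
    simp only [Prod.mk.injEq]
    refine ⟨by ring, by ring, by ring, by ring⟩
  have h0 : word a b c x (prodW u w) = 1 := by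
    rw [← F.word_mul, ← h, F.word_mul, hv]
    simp [word, wd]
  obtain ⟨d1, d2, d3, d4⟩ := F.wd_eq_one h0
  have e : ∀ z : ZMod p, p ∣ z.val → z = 0 := fun z hz => by
    rw [← ZMod.natCast_zmod_val z]
    exact (ZMod.natCast_eq_zero_iff _ _).2 hz
  have e1 := e _ d1
  have e4 := e _ d4
  have e2 := e _ d2
  have e3 := e _ d3
  rw [hu] at e1 e2 e3 e4
  simp only [prodW] at e1 e2 e3 e4
  have f1 : v.1 = w.1 := by linear_combination -e1
  have f4 : v.2.2.2 = w.2.2.2 := by linear_combination -e4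
  have f2 : v.2.1 = w.2.1 := by linear_combination -e2 + v.2.2.2 * f1
  have f3 : v.2.2.1 = w.2.2.1 := by
    linear_combination -e3 - ((((-v.2.2.2).val.choose 2 : ℕ)) : ZMod p) * f1 + v.2.2.2 * f2
  exact Prod.ext f1 (Prod.ext f2 (Prod.ext f3 f4))

theorem card_coords : Nat.card (ZMod p × ZMod p × ZMod p × ZMod p) = p ^ 4 := by
  simp [Nat.card_prod, Nat.card_zmod]; ring

/-- The upper unitriangular block matrix of a symmetric matrix. -/
def upU (S : Matrix (Fin 2) (Fin 2) (ZMod p)) : Matrix (Fin 2 ⊕ Fin 2) (Fin 2 ⊕ Fin 2) (ZMod p) :=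
  Matrix.fromBlocks 1 S 0 1

theorem upU_mem {S : Matrix (Fin 2) (Fin 2) (ZMod p)} (hS : Sᵀ = S) :
    upU S ∈ Matrix.symplecticGroup (Fin 2) (ZMod p) := by
  rw [SymplecticGroup.mem_iff, upU, Matrix.J, Matrix.fromBlocks_transpose,
    Matrix.fromBlocks_multiply, Matrix.fromBlocks_multiply]
  simp [hS]

theorem upU_mul (S T : Matrix (Fin 2) (Fin 2) (ZMod p)) : upU S * upU T = upU (S + T) := by
  simp [upU, Matrix.fromBlocks_multiply, add_comm]

theorem upU_inj {S T : Matrix (Fin 2) (Fin 2) (ZMod p)} (h : upU S = upU T) : S = T :=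
  (Matrix.fromBlocks_inj.1 h).2.1

theorem exists_frame (hp : p ≠ 2) :
    ∃ a b c x : Matrix.symplecticGroup (Fin 2) (ZMod p), Frame p a b c x := by
  have hpp : p.Prime := Fact.out
  have hA : ∀ S : Matrix (Fin 2) (Fin 2) (ZMod p), (hS : Sᵀ = S) → ∀ n : ℕ,
      (((⟨upU S, upU_mem hS⟩ : Matrix.symplecticGroup (Fin 2) (ZMod p)) ^ n :
        Matrix.symplecticGroup (Fin 2) (ZMod p)) : Matrix _ _ (ZMod p)) = upU (n • S) := by
    intro S hS n
    induction n with
    | zero => simp [upU]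
    | succ n ih => rw [pow_succ, Submonoid.coe_mul, ih, upU_mul, succ_nsmul]
  have hk : ∀ S : Matrix (Fin 2) (Fin 2) (ZMod p), (p • S) = 0 := fun S => by
    ext i j; simp
  set X : Matrix (Fin 2 ⊕ Fin 2) (Fin 2 ⊕ Fin 2) (ZMod p) :=
    Matrix.fromBlocks !![1, 1; 0, 1] 0 0 !![1, 0; -1, 1] with hX
  have hXmem : X ∈ Matrix.symplecticGroup (Fin 2) (ZMod p) := by
    rw [SymplecticGroup.mem_iff, hX, Matrix.J, Matrix.fromBlocks_transpose,
      Matrix.fromBlocks_multiply, Matrix.fromBlocks_multiply]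
    congr 1 <;> ext i j <;> fin_cases i <;> fin_cases j <;>
      simp [Matrix.mul_apply, Fin.sum_univ_two, Matrix.vecMul, dotProduct, Matrix.transpose_apply]
  have hsym : ∀ s t r : ZMod p, (!![s, t; t, r])ᵀ = !![s, t; t, r] := fun s t r => by
    ext i j
    fin_cases i <;> fin_cases j <;> simp
  refine ⟨⟨upU !![0, 0; 0, 1], upU_mem (hsym _ _ _)⟩,
    ⟨upU !![1, 1; 1, 0], upU_mem (hsym _ _ _)⟩,
    ⟨upU !![2, 0; 0, 0], upU_mem (hsym _ _ _)⟩,
    ⟨X, hXmem⟩, ?_, ?_, ?_, ?_, ?_, ?_, ?_, ?_, ?_, ?_, ?_⟩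
  · exact Subtype.ext (by rw [hA, hk]; simp [upU]; exact hsym _ _ _)
  · exact Subtype.ext (by rw [hA, hk]; simp [upU]; exact hsym _ _ _)
  · exact Subtype.ext (by rw [hA, hk]; simp [upU]; exact hsym _ _ _)
  · have key : ∀ n : ℕ, X ^ n = Matrix.fromBlocks !![1, (n : ZMod p); 0, 1] 0 0
        !![1, 0; -(n : ZMod p), 1] := by
      intro n
      induction n with
      | zero =>
        rw [pow_zero, ← Matrix.fromBlocks_one]
        congr 1 <;> ext i j <;> fin_cases i <;> fin_cases j <;> simp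
      | succ n ih =>
        rw [pow_succ, ih, hX, Matrix.fromBlocks_multiply]
        congr 1 <;> ext i j <;> fin_cases i <;> fin_cases j <;>
          simp [Matrix.mul_apply, Fin.sum_univ_two] <;> ring
    refine Subtype.ext ?_
    rw [SubmonoidClass.coe_pow]
    show X ^ p = 1
    rw [key p, ← Matrix.fromBlocks_one]
    congr 1 <;> ext i j <;> fin_cases i <;> fin_cases j <;> simp
  · exact Subtype.ext (by simp only [Submonoid.coe_mul, upU_mul, add_comm])
  · exact Subtype.ext (by simp only [Submonoid.coe_mul, upU_mul, add_comm])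
  · exact Subtype.ext (by simp only [Submonoid.coe_mul, upU_mul, add_comm])
  · refine Subtype.ext ?_
    simp only [Submonoid.coe_mul, upU_mul]
    rw [hX, upU, upU, Matrix.fromBlocks_multiply, Matrix.fromBlocks_multiply]
    congr 1 <;> ext i j <;> fin_cases i <;> fin_cases j <;>
      simp [Matrix.mul_apply, Fin.sum_univ_two]
  · refine Subtype.ext ?_
    simp only [Submonoid.coe_mul, upU_mul]
    rw [hX, upU, upU, Matrix.fromBlocks_multiply, Matrix.fromBlocks_multiply]
    congr 1 <;> ext i j <;> fin_cases i <;> fin_cases j <;>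
      simp [Matrix.mul_apply, Fin.sum_univ_two] <;> ring
  · refine Subtype.ext ?_
    simp only [Submonoid.coe_mul]
    rw [hX, upU, Matrix.fromBlocks_multiply, Matrix.fromBlocks_multiply]
    congr 1 <;> ext i j <;> fin_cases i <;> fin_cases j <;>
      simp [Matrix.mul_apply, Fin.sum_univ_two]
  · intro h
    have h2 : (2 : ZMod p) = 0 := by
      have := upU_inj (p := p) (S := !![2, 0; 0, 0]) (T := 0)
        ((congrArg Subtype.val h).trans (by simp [upU]))
      simpa using congrFun (congrFun this 0) 0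
    have h3 : ((2 : ℕ) : ZMod p) = 0 := by exact_mod_cast h2
    exact hp ((Nat.prime_dvd_prime_iff_eq hpp Nat.prime_two).1
      ((ZMod.natCast_eq_zero_iff 2 p).1 h3))

theorem pow_four_card :
    ∃ m : ℕ, ¬ p ∣ m ∧ Nat.card (Matrix.symplecticGroup (Fin 2) (ZMod p)) = p ^ 4 * m := by
  refine ⟨(p ^ 2 - 1) * (p ^ 4 - 1), ?_, ?_⟩
  · intro h
    have hpp : p.Prime := Fact.out
    have key : ∀ n, n ≠ 0 → ¬ p ∣ p ^ n - 1 := fun n hn hd => by
      have h1 : 1 ≤ p ^ n := Nat.one_le_pow _ _ hpp.pos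
      have h2 := Nat.dvd_sub (dvd_pow_self p hn) hd
      rw [Nat.sub_sub_self h1, Nat.dvd_one] at h2
      exact hpp.ne_one h2
    rcases hpp.dvd_mul.1 h with h | h
    · exact key 2 (by norm_num) h
    · exact key 4 (by norm_num) h
  · rw [Cfsg.Agent.S0245.result (q := p) (ZMod.card p) 2]
    simp [Finset.prod_range_succ]

/-- A group of order `p ^ 4` with such a frame is a Sylow subgroup of `Sp(4,p)`. -/
theorem Frame.iso_sylow (hp : p ≠ 2) (F : Frame p a b c x) (hG : Nat.card G = p ^ 4) :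
    ∃ P : Sylow p ↥(Matrix.symplecticGroup (Fin 2) (ZMod p)),
      Nonempty (G ≃* ↥(P : Subgroup ↥(Matrix.symplecticGroup (Fin 2) (ZMod p)))) := by
  obtain ⟨a', b', c', x', F'⟩ := exists_frame (p := p) hp
  have hbij : Function.Bijective (word (p := p) a b c x) := by
    haveI : Finite G := Nat.finite_of_card_ne_zero (by
      rw [hG]; exact pow_ne_zero 4 (Fact.out : p.Prime).ne_zero)
    exact F.word_injective.bijective_of_nat_card_le (by rw [hG, card_coords])
  set e := Equiv.ofBijective _ hbij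
  have hev : ∀ v, e v = word a b c x v := fun v => rfl
  let ψ : G →* Matrix.symplecticGroup (Fin 2) (ZMod p) :=
    MonoidHom.mk' (fun g => word a' b' c' x' (e.symm g)) fun g h => by
      rw [F'.word_mul]
      congr 1
      rw [Equiv.symm_apply_eq, hev, ← F.word_mul, ← hev, ← hev, Equiv.apply_symm_apply,
        Equiv.apply_symm_apply]
  have hψ : Function.Injective ψ := fun g h hgh =>
    e.symm.injective (F'.word_injective hgh)
  haveI : Finite (Matrix.symplecticGroup (Fin 2) (ZMod p)) := Subtype.finite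
  have hcard : Nat.card ψ.range = p ^ 4 := by
    rw [← Nat.card_congr (MonoidHom.ofInjective hψ).toEquiv, hG]
  have hP : IsPGroup p ψ.range := IsPGroup.of_card hcard
  obtain ⟨P, hP'⟩ := hP.exists_le_sylow
  refine ⟨P, ⟨(MonoidHom.ofInjective hψ).trans (MulEquiv.subgroupCongr ?_)⟩⟩
  refine Subgroup.eq_of_le_of_card_ge hP' ?_
  obtain ⟨m, hm, hcard'⟩ := pow_four_card (p := p)
  have hpp : p.Prime := Fact.out
  have hf : (Nat.card (Matrix.symplecticGroup (Fin 2) (ZMod p))).factorization p = 4 := by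
    rw [hcard', Nat.factorization_mul (pow_ne_zero 4 hpp.ne_zero)
      (fun h0 => hm (by rw [h0]; exact dvd_zero p)), Finsupp.add_apply,
      Nat.Prime.factorization_pow hpp, Finsupp.single_eq_same,
      Nat.factorization_eq_zero_of_not_dvd hm, add_zero]
  rw [P.card_eq_multiplicity, hf, hcard]

/-- An element of order `p` outside an elementary abelian maximal subgroup, acting with a
nonzero double commutator. -/
theorem iso_sylow_of_split (hp : p ≠ 2) (hG : Nat.card G = p ^ 4) {A : Subgroup G} [A.Normal]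
    (hAc : ∀ u ∈ A, ∀ v ∈ A, u * v = v * u) (hAp : ∀ u ∈ A, u ^ p = 1) {x a : G}
    (hxp : x ^ p = 1) (ha : a ∈ A) (h2 : ¬ Commute x (a⁻¹ * (x * a * x⁻¹))) :
    ∃ P : Sylow p ↥(Matrix.symplecticGroup (Fin 2) (ZMod p)),
      Nonempty (G ≃* ↥(P : Subgroup ↥(Matrix.symplecticGroup (Fin 2) (ZMod p)))) := by
  haveI : Finite G := Nat.finite_of_card_ne_zero (by
    rw [hG]; exact pow_ne_zero 4 (Fact.out : p.Prime).ne_zero)
  haveI : Group.IsNilpotent G := (IsPGroup.of_card hG).isNilpotent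
  set N : G → G := fun v => v⁻¹ * (x * v * x⁻¹) with hN
  have hNA : ∀ v ∈ A, N v ∈ A := fun v hv =>
    A.mul_mem (A.inv_mem hv) (Subgroup.Normal.conj_mem inferInstance v hv x)
  have hN1 : N 1 = 1 := by simp [hN]
  obtain ⟨k, hk⟩ := Subgroup.nilpotent_iff_lowerCentralSeries.1 (inferInstance : Group.IsNilpotent G)
  have hiter : ∀ m, N^[m] a ∈ A ∧ N^[m] a ∈ Subgroup.lowerCentralSeries (⊤ : Subgroup G) m := by
    intro m
    induction m with
    | zero => exact ⟨ha, by simp [Subgroup.lowerCentralSeries_zero]⟩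
    | succ m ih =>
      rw [Function.iterate_succ_apply']
      refine ⟨hNA _ ih.1, ?_⟩
      have h : N (N^[m] a) = ⁅(N^[m] a)⁻¹, x⁆ := by simp [hN, commutatorElement_def, mul_assoc]
      rw [h, Subgroup.lowerCentralSeries_succ]
      exact Subgroup.commutator_mem_commutator (inv_mem ih.2) (Subgroup.mem_top _)
  -- the last nontrivial double displacement
  have hex : ∃ m, N^[m + 2] a ≠ 1 ∧ N^[m + 3] a = 1 := by
    by_contra hall
    push Not at hall
    have : ∀ m, N^[m + 2] a ≠ 1 := by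
      intro m
      induction m with
      | zero =>
        intro h
        apply h2
        have h' : N (N a) = 1 := h
        simp only [hN] at h'
        exact mul_inv_eq_iff_eq_mul.1 (inv_mul_eq_one.1 h').symm
      | succ m ih => exact hall m ih
    refine this k (Subgroup.mem_bot.1 (hk ▸ ?_))
    exact Subgroup.lowerCentralSeries_antitone ⊤ (show k ≤ k + 2 by omega) (hiter (k + 2)).2
  obtain ⟨m, hm2, hm3⟩ := hex
  set a' := N^[m] a with ha'
  have e1 : N^[m + 1] a = N a' := Function.iterate_succ_apply' N m a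
  have e2 : N^[m + 2] a = N (N a') := by rw [Function.iterate_succ_apply', e1]
  have e3 : N^[m + 3] a = N (N (N a')) := by rw [Function.iterate_succ_apply', e2]
  rw [e2] at hm2
  rw [e3] at hm3
  have hA0 := (hiter m).1
  have hx : ∀ v, x * v = v * N v * x := fun v => by simp [hN, mul_assoc]
  refine Frame.iso_sylow hp (a := a') (b := N a') (c := N (N a')) (x := x) ⟨hAp _ hA0,
    hAp _ (hNA _ hA0), hAp _ (hNA _ (hNA _ hA0)), hxp, hAc _ hA0 _ (hNA _ hA0),
    hAc _ hA0 _ (hNA _ (hNA _ hA0)), hAc _ (hNA _ hA0) _ (hNA _ (hNA _ hA0)), hx _, hx _, ?_,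
    hm2⟩ hG
  have := hx (N (N a'))
  rwa [hm3, mul_one] at this

end Cfsg.Agent.H59.SpSylow
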